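import Mathlib
import Cfsg.Agent.H288.KillLong
import Cfsg.Agent.GH.Defs
import Cfsg.Agent.SignalizersComponents.SLQuasisimple
import Cfsg.Agent.SignalizersComponents.Components
import Cfsg.Agent.SevenLow.DoubleCover
import Cfsg.Agent.TypeM.FactsMcL
import Cfsg.Agent.GH.AltOut
import Cfsg.Agent.FastGrp
import Cfsg.Agent.Prune
set_option linter.all false
prune_inst 0x7f00000000000000000000000000000000000000000000000000000000000000000000000000000000000000000000000000000000000000000000000000000000000000000000000000000000000000003fffffffffffffffffffffffffffbeffbdffffffff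
open scoped Cfsg.Agent.FastGrp

-- part: H288/Rest
section
/-!
# The simple groups of sectional 2-rank at most 4 without bad 2-central involution (helper288)

`rest_of_not_bad` : `K4 X`, `t` a 2-central involution which is not `KillLong.Bad`: `X` is in the list `List4 X` (no field with
more than three elements in odd characteristic, except `PSL₂`).
-/

set_option autoImplicit false

namespace Cfsg.Agent.H288.Rest

open Cfsg Subgroup
open Cfsg.Agent.GH.Defs
open Cfsg.Agent.H288.KillLong

universe u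

/-- `PSL_n(q)` -/
def IsPSLq (n q : ℕ) (X : Type*) [Group X] : Prop :=
  ∃ (F : Type) (_ : Field F) (_ : Fintype F), Fintype.card F = q ∧
    Nonempty (X ≃* Matrix.ProjectiveSpecialLinearGroup (Fin n) F)

/-- `PSU_n(q)` -/
def IsPSUq (n q : ℕ) (X : Type*) [Group X] : Prop :=
  ∃ (F : Type) (_ : Field F) (_ : Fintype F), Fintype.card F = q ^ 2 ∧ Nonempty (X ≃* Cfsg.PSU n F q)

/-- `PSp_2m(q)` -/
def IsPSpq (m q : ℕ) (X : Type*) [Group X] : Prop :=
  ∃ (F : Type) (_ : Field F) (_ : Fintype F), Fintype.card F = q ∧ Nonempty (X ≃* Cfsg.PSp m F)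

/-- `G₂(q)` -/
def IsG2q (q : ℕ) (X : Type*) [Group X] : Prop :=
  ∃ (F : Type) (_ : Field F) (_ : Fintype F), Fintype.card F = q ∧ Nonempty (X ≃* ↥(Lie.chevG2.group F))

/-- the rest -/
def List4 (X : Type*) [Group X] : Prop :=
  IsL2odd X ∨ IsPSLq 3 3 X ∨ IsPSUq 3 3 X ∨ IsU34 X ∨ IsAlt 7 X ∨ Spor.IsoM11 X ∨
    IsL28 X ∨ IsSz8 X ∨ Lie.IsoRee X ∨ Spor.IsoJ1 X ∨ IsL216 X ∨ IsL34 X ∨
    (∃ n, 8 ≤ n ∧ n ≤ 11 ∧ IsAlt n X) ∨ IsPSpq 2 3 X ∨ IsPSLq 4 3 X ∨ IsPSUq 4 3 X ∨ IsPSLq 5 3 X ∨ IsG2q 3 X ∨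
    Spor.IsoM12 X ∨ Spor.IsoM22 X ∨ Spor.IsoM23 X ∨ Spor.IsoJ2 X ∨ Spor.IsoJ3 X ∨ HasAltCover X

theorem card_three {F : Type*} [Field F] [Fintype F] (ho : Odd (Fintype.card F)) (h : ¬ 3 < Fintype.card F) :
    Fintype.card F = 3 := by
  have h1 : 1 < Fintype.card F := Fintype.one_lt_card
  obtain ⟨k, hk⟩ := ho
  omega

theorem q_three {F : Type*} [Field F] [Fintype F] {q : ℕ} (hF : Fintype.card F = q ^ 2) (ho : Odd q) (h : ¬ 3 < q) :
    q = 3 := by
  have h1 : 1 < Fintype.card F := Fintype.one_lt_card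
  obtain ⟨k, hk⟩ := ho
  have : q = 1 ∨ q = 3 := by omega
  rcases this with rfl | rfl
  · norm_num at hF
    omega
  · rfl

theorem psl_row {X : Type u} [Group X] [Finite X] {t : X} (ht : IsTwoCentralInvolution t) (hb : ¬ Bad t) {n : ℕ}
    (hn : 3 ≤ n) {F : Type} [Field F] [Fintype F] (ho : Odd (Fintype.card F))
    (e : Nonempty (X ≃* Matrix.ProjectiveSpecialLinearGroup (Fin n) F)) : IsPSLq n 3 X := by
  by_cases h : 3 < Fintype.card F
  · exact (hb (bad_psl hn ho h e ht)).elim
  · exact ⟨F, _, _, card_three ho h, e⟩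

theorem psu_row {X : Type u} [Group X] [Finite X] {t : X} (ht : IsTwoCentralInvolution t) (hb : ¬ Bad t) {n : ℕ}
    (hn : 3 ≤ n) {F : Type} [Field F] [Fintype F] {q : ℕ} (hF : Fintype.card F = q ^ 2) (ho : Odd q)
    (e : Nonempty (X ≃* Cfsg.PSU n F q)) : IsPSUq n 3 X ∧ q = 3 := by
  by_cases h : 3 < q
  · exact (hb (bad_psu hn hF ho h e ht)).elim
  · have h3 := q_three hF ho h
    subst h3
    exact ⟨⟨F, _, _, hF, e⟩, rfl⟩

/-- **The rest.** -/
theorem rest_of_not_bad {X : Type u} [Group X] [Finite X] (h : K4 X) {t : X} (ht : IsTwoCentralInvolution t)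
    (hb : ¬ Bad t) : List4 X := by
  rcases h with h | h | h | h | h | h | h | h | h | h | h | h | h | h | h | h | h | h
  · rcases h with h | h | h | h | h | h
    · exact Or.inl h
    · obtain ⟨F, _, _, ho, e⟩ := h
      exact Or.inr (Or.inl (psl_row ht hb le_rfl ho e))
    · obtain ⟨F, _, _, q, hF, ho, e⟩ := h
      exact Or.inr (Or.inr (Or.inl (psu_row ht hb le_rfl hF ho e).1))
    · unfold List4; (clear * - h; tauto)
    · unfold List4; (clear * - h; (solve | repeat (first | with_reducible assumption | exact Or.inl (by with_reducible assumption) | refine Or.inr ?_) | simp only [h, true_or, or_true]))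
    · unfold List4; (clear * - h; (solve | repeat (first | with_reducible assumption | exact Or.inl (by with_reducible assumption) | refine Or.inr ?_) | simp only [h, true_or, or_true]))
  · rcases h with h | h | h | h <;> (unfold List4; (clear * - h; (solve | repeat (first | with_reducible assumption | exact Or.inl (by with_reducible assumption) | refine Or.inr ?_) | simp only [h, true_or, or_true])))
  · unfold List4; (solve | repeat (first | with_reducible assumption | exact Or.inl (by with_reducible assumption) | refine Or.inr ?_) | simp only [h, true_or, or_true])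
  · unfold List4; (solve | repeat (first | with_reducible assumption | exact Or.inl (by with_reducible assumption) | refine Or.inr ?_) | simp only [h, true_or, or_true])
  · exact Or.inr (Or.inr (Or.inr (Or.inr (Or.inr (Or.inr (Or.inr (Or.inr (Or.inr (Or.inr (Or.inr (Or.inr (Or.inl h))))))))))))
  · -- `PSp₄`
    obtain ⟨F, _, _, ho, e⟩ := h
    by_cases h3 : 3 < Fintype.card F
    · exact (hb (bad_psp le_rfl ho h3 e ht)).elim
    · have : IsPSpq 2 3 X := ⟨F, _, _, card_three ho h3, e⟩
      unfold List4; (clear * - this; (solve | repeat (first | with_reducible assumption | exact Or.inl (by with_reducible assumption) | refine Or.inr ?_) | simp only [this, true_or, or_true]))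
  · -- `PSL₄`
    obtain ⟨F, _, _, ho, -, e⟩ := h
    have := psl_row ht hb (by norm_num) ho e
    unfold List4; (solve | repeat (first | with_reducible assumption | exact Or.inl (by with_reducible assumption) | refine Or.inr ?_) | simp only [this, true_or, or_true])
  · -- `PSU₄`
    obtain ⟨F, _, _, q, hF, ho, -, e⟩ := h
    have := (psu_row ht hb (by norm_num) hF ho e).1
    unfold List4; (clear * - this; (solve | repeat (first | with_reducible assumption | exact Or.inl (by with_reducible assumption) | refine Or.inr ?_) | simp only [this, true_or, or_true]))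
  · -- `PSL₅`
    obtain ⟨F, _, _, ho, e⟩ := h
    have := psl_row ht hb (by norm_num) (Nat.odd_iff.2 (by omega)) e
    unfold List4; (solve | simp only [*, true_or, or_true, and_self, true_and, and_true, not_false_eq_true] | simp only [this, true_or, or_true])
  · -- `PSU₅`
    obtain ⟨F, _, _, q, hF, ho, e⟩ := h
    have h3 := (psu_row ht hb (by norm_num) hF (Nat.odd_iff.2 (by omega)) e).2
    omega
  · -- `G₂`
    obtain ⟨⟨F, _, _, ho, e⟩, -⟩ := h
    by_cases h3 : 3 < Fintype.card F
    · exact (hb (bad_g2 ho h3 e ht)).elim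
    · have : IsG2q 3 X := ⟨F, _, _, card_three ho h3, e⟩
      unfold List4; (clear * - this; (solve | repeat (first | with_reducible assumption | exact Or.inl (by with_reducible assumption) | refine Or.inr ?_) | simp only [this, true_or, or_true]))
  · -- `³D₄`
    obtain ⟨⟨K, _, _, q, ho, hK, e⟩, -⟩ := h
    exact (hb (bad_d4 ho hK e ht)).elim
  all_goals unfold List4; (solve | repeat (first | with_reducible assumption | exact Or.inl (by with_reducible assumption) | refine Or.inr ?_) | simp only [h, true_or, or_true])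

end Cfsg.Agent.H288.Rest
end

-- part: H288/SLInv
section
/-!
# Involutions of `SL_n(F)`, `n ≥ 5`, `F` of odd characteristic (helper288)

`exists_normal` : for `T ∈ SL_n(F)`, `T² = 1`, `n ≥ 5`: a quasisimple subgroup `J ≤ C(T)` (`≅ SL_k(F)`, `k ≥ 3`) normalized by
`C(T)`.
-/

set_option autoImplicit false

namespace Cfsg.Agent.H288.SLInv

open Cfsg Matrix
open Cfsg.Agent.SignalizersComponents.Components

variable {F : Type*} [Field F]

/-- A matrix with square one has a basis of eigenvectors. -/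
theorem exists_eigen {n : Type*} [Fintype n] [DecidableEq n] (h2 : (2 : F) ≠ 0) {T : Matrix n n F} (hT : T * T = 1) :
    ∃ (b : Module.Basis n F (n → F)) (d : n → F), (∀ i, d i = 1 ∨ d i = -1) ∧ ∀ i, T *ᵥ b i = d i • b i := by
  set S : Set (n → F) := {v | T *ᵥ v = v ∨ T *ᵥ v = -v} with hS
  have hspan : ⊤ ≤ Submodule.span F S := by
    intro v _
    have h1 : v + T *ᵥ v ∈ S := by
      left
      rw [Matrix.mulVec_add, Matrix.mulVec_mulVec, hT, Matrix.one_mulVec, add_comm]
    have h3 : v - T *ᵥ v ∈ S := by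
      right
      rw [Matrix.mulVec_sub, Matrix.mulVec_mulVec, hT, Matrix.one_mulVec, neg_sub]
    have h4 : v = (2 : F)⁻¹ • ((v + T *ᵥ v) + (v - T *ᵥ v)) := by
      have : (v + T *ᵥ v) + (v - T *ᵥ v) = (2 : F) • v := by
        rw [two_smul]; abel
      rw [this, smul_smul, inv_mul_cancel₀ h2, one_smul]
    rw [h4]
    exact Submodule.smul_mem _ _ (Submodule.add_mem _ (Submodule.subset_span h1)
      (Submodule.subset_span h3))
  let b₀ := Module.Basis.ofSpan hspan
  have hsub := Module.Basis.ofSpan_subset hspan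
  have hfin : Finite ((linearIndepOn_empty F id).extend (Set.empty_subset S)) :=
    Module.Finite.finite_basis b₀
  have := Fintype.ofFinite ((linearIndepOn_empty F id).extend (Set.empty_subset S))
  have hcard : Fintype.card ((linearIndepOn_empty F id).extend (Set.empty_subset S)) = Fintype.card n := by
    rw [← Module.finrank_eq_card_basis b₀, Module.finrank_fintype_fun_eq_card]
  let e := Fintype.equivOfCardEq hcard
  have hb : ∀ i, T *ᵥ (b₀.reindex e) i = (b₀.reindex e) i ∨ T *ᵥ (b₀.reindex e) i = - (b₀.reindex e) i := by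
    intro i
    rw [Module.Basis.reindex_apply]
    exact hsub (Set.mem_range_self _)
  have h1 : ∀ i, ∃ d : F, (d = 1 ∨ d = -1) ∧ T *ᵥ (b₀.reindex e) i = d • (b₀.reindex e) i := by
    intro i
    rcases hb i with h | h
    · exact ⟨1, Or.inl rfl, by rw [h, one_smul]⟩
    · exact ⟨-1, Or.inr rfl, by rw [h, neg_smul, one_smul]⟩
  choose d hd hdb using h1
  exact ⟨_, d, hd, hdb⟩

/-- transport of `SL` along an isomorphism of the matrix algebras preserving the determinant -/
def slEquiv {m n : Type*} [Fintype m] [DecidableEq m] [Fintype n] [DecidableEq n] (Ψ : Matrix m m F ≃* Matrix n n F)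
    (hdet : ∀ M, (Ψ M).det = M.det) : _root_.Matrix.SpecialLinearGroup m F ≃* _root_.Matrix.SpecialLinearGroup n F where
  toFun A := ⟨Ψ A.1, by rw [hdet]; exact A.2⟩
  invFun A := ⟨Ψ.symm A.1, by rw [← hdet, MulEquiv.apply_symm_apply]; exact A.2⟩
  left_inv A := Subtype.ext (Ψ.symm_apply_apply A.1)
  right_inv A := Subtype.ext (Ψ.apply_symm_apply A.1)
  map_mul' A B := Subtype.ext (map_mul Ψ A.1 B.1)

/-- `T² = 1`: `T` is diagonal with respect to a basis -/
theorem exists_diag {n : Type*} [Fintype n] [DecidableEq n] (h2 : (2 : F) ≠ 0) {T : _root_.Matrix.SpecialLinearGroup n F}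
    (hT : T * T = 1) : ∃ (Θ : _root_.Matrix.SpecialLinearGroup n F ≃* _root_.Matrix.SpecialLinearGroup n F) (d : n → F),
      (∀ i, d i = 1 ∨ d i = -1) ∧ (Θ T : Matrix n n F) = diagonal d := by
  obtain ⟨b, d, hd, hb⟩ := exists_eigen h2 (T := (T : Matrix n n F)) (congrArg Subtype.val hT)
  let Ψ : Matrix n n F ≃ₐ[F] Matrix n n F := (Matrix.toLinAlgEquiv').trans (LinearMap.toMatrixAlgEquiv b)
  have hdet : ∀ M, (Ψ M).det = M.det := by
    intro M
    change (LinearMap.toMatrix b b (Matrix.toLin' M)).det = M.det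
    rw [LinearMap.det_toMatrix, LinearMap.det_toLin']
  refine ⟨slEquiv (Ψ : Matrix n n F ≃* Matrix n n F) hdet, d, hd, ?_⟩
  change LinearMap.toMatrix b b (Matrix.toLin' (T : Matrix n n F)) = diagonal d
  ext i j
  rw [LinearMap.toMatrix_apply, Matrix.toLin'_apply, hb j, map_smul, Finsupp.smul_apply, b.repr_self, smul_eq_mul,
    diagonal_apply, Finsupp.single_apply]
  by_cases h : i = j
  · subst h; simp
  · rw [if_neg h, if_neg (Ne.symm h), mul_zero]

/-- The left block. -/
def left (ι κ : Type*) [Fintype ι] [DecidableEq ι] [Fintype κ] [DecidableEq κ] (F : Type*) [Field F] :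
    _root_.Matrix.SpecialLinearGroup ι F →* _root_.Matrix.SpecialLinearGroup (ι ⊕ κ) F where
  toFun A := ⟨fromBlocks A.1 0 0 1, by rw [det_fromBlocks_zero₂₁, A.2, det_one, mul_one]⟩
  map_one' := Subtype.ext (by change fromBlocks (1 : Matrix ι ι F) 0 0 1 = 1; exact fromBlocks_one)
  map_mul' A B := Subtype.ext (by
    change fromBlocks (A.1 * B.1) 0 0 1 = fromBlocks A.1 0 0 1 * fromBlocks B.1 0 0 1
    rw [fromBlocks_multiply]
    simp only [_root_.Matrix.mul_zero, _root_.add_zero, _root_.Matrix.mul_one, _root_.Matrix.zero_mul, _root_.mul_one, _root_.zero_add])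

section blocks

variable {ι κ : Type*} [Fintype ι] [DecidableEq ι] [Fintype κ] [DecidableEq κ]

theorem left_injective : Function.Injective (left ι κ F) := by
  intro A B h
  have h1 : fromBlocks A.1 (0 : Matrix ι κ F) 0 (1 : Matrix κ κ F) = fromBlocks B.1 0 0 1 := congrArg Subtype.val h
  exact Subtype.ext (fromBlocks_inj.1 h1).1

/-- matrices commuting with `diag(ε, -ε)` are block diagonal -/
theorem block_of_comm (h2 : (2 : F) ≠ 0) {ε : F} (hε : ε = 1 ∨ ε = -1) {g : Matrix (ι ⊕ κ) (ι ⊕ κ) F}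
    (hg : g * fromBlocks (ε • (1 : Matrix ι ι F)) 0 0 (-ε • (1 : Matrix κ κ F)) =
      fromBlocks (ε • (1 : Matrix ι ι F)) 0 0 (-ε • (1 : Matrix κ κ F)) * g) :
    g = fromBlocks g.toBlocks₁₁ 0 0 g.toBlocks₂₂ := by
  have h1 := fromBlocks_toBlocks g
  rw [← h1, fromBlocks_multiply, fromBlocks_multiply, fromBlocks_inj] at hg
  obtain ⟨-, h12, h21, -⟩ := hg
  have e12 : g.toBlocks₁₂ = 0 := by
    simp only [Matrix.mul_zero, Matrix.zero_mul, add_zero, zero_add, Matrix.smul_mul, Matrix.mul_smul,
      Matrix.mul_one, Matrix.one_mul] at h12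
    ext i j
    have := congrFun (congrFun h12 i) j
    simp only [Matrix.smul_apply, smul_eq_mul, neg_mul] at this
    have h3 : (2 : F) * (ε * g.toBlocks₁₂ i j) = 0 := by linear_combination -this
    rcases mul_eq_zero.1 h3 with h | h
    · exact (h2 h).elim
    · rcases mul_eq_zero.1 h with h | h
      · rcases hε with rfl | rfl
        · exact (one_ne_zero h).elim
        · exact (one_ne_zero (neg_eq_zero.1 h)).elim
      · exact h
  have e21 : g.toBlocks₂₁ = 0 := by
    simp only [Matrix.mul_zero, Matrix.zero_mul, add_zero, zero_add, Matrix.smul_mul, Matrix.mul_smul,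
      Matrix.mul_one, Matrix.one_mul] at h21
    ext i j
    have := congrFun (congrFun h21 i) j
    simp only [Matrix.smul_apply, smul_eq_mul, neg_mul] at this
    have h3 : (2 : F) * (ε * g.toBlocks₂₁ i j) = 0 := by linear_combination this
    rcases mul_eq_zero.1 h3 with h | h
    · exact (h2 h).elim
    · rcases mul_eq_zero.1 h with h | h
      · rcases hε with rfl | rfl
        · exact (one_ne_zero h).elim
        · exact (one_ne_zero (neg_eq_zero.1 h)).elim
      · exact h
  rw [e12, e21] at h1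
  exact h1.symm

/-- the left block is centralized by `diag(ε, -ε)` and normalized by its centralizer -/
theorem left_normal (h2 : (2 : F) ≠ 0) {ε : F} (hε : ε = 1 ∨ ε = -1) {D : _root_.Matrix.SpecialLinearGroup (ι ⊕ κ) F}
    (hD : D.1 = fromBlocks (ε • (1 : Matrix ι ι F)) 0 0 (-ε • (1 : Matrix κ κ F))) :
    (left ι κ F).range ≤ Subgroup.centralizer ({D} : Set (_root_.Matrix.SpecialLinearGroup (ι ⊕ κ) F)) ∧
      ∀ g : _root_.Matrix.SpecialLinearGroup (ι ⊕ κ) F, g * D = D * g → ∀ x ∈ (left ι κ F).range, g * x * g⁻¹ ∈ (left ι κ F).range := by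
  constructor
  · rintro _ ⟨A, rfl⟩
    refine Subgroup.mem_centralizer_singleton_iff.2 (Subtype.ext ?_)
    change fromBlocks A.1 0 0 1 * D.1 = D.1 * fromBlocks A.1 0 0 1
    rw [hD, fromBlocks_multiply, fromBlocks_multiply]
    simp only [_root_.Algebra.mul_smul_comm, _root_.mul_one, _root_.Matrix.mul_zero, _root_.add_zero, _root_.neg_smul, _root_.Matrix.mul_neg, _root_.Matrix.mul_smul, _root_.Matrix.mul_one, _root_.smul_zero, _root_.neg_zero, _root_.mul_neg, _root_.zero_add, _root_.Algebra.smul_mul_assoc, _root_.one_mul, _root_.Matrix.zero_mul]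
  · rintro g hg _ ⟨A, rfl⟩
    have hg' : g⁻¹ * D = D * g⁻¹ := by
      calc g⁻¹ * D = g⁻¹ * (D * g) * g⁻¹ := by group
        _ = g⁻¹ * (g * D) * g⁻¹ := by rw [hg]
        _ = D * g⁻¹ := by group
    have e1 := block_of_comm h2 hε (g := g.1) (by rw [← hD]; exact congrArg Subtype.val hg)
    have e2 := block_of_comm h2 hε (g := (g⁻¹).1) (by rw [← hD]; exact congrArg Subtype.val hg')
    have e3 : g.1 * (g⁻¹).1 = 1 := congrArg Subtype.val (mul_inv_cancel g)
    rw [e1, e2, fromBlocks_multiply, ← fromBlocks_one, fromBlocks_inj] at e3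
    obtain ⟨f1, -, -, f2⟩ := e3
    simp only [Matrix.mul_zero, add_zero, zero_add] at f1 f2
    have e4 : (toBlocks₁₁ g.1 * A.1 * toBlocks₁₁ (g⁻¹).1).det = 1 := by
      rw [det_mul, det_mul, A.2, mul_one, ← det_mul, f1, det_one]
    refine ⟨⟨_, e4⟩, Subtype.ext ?_⟩
    change fromBlocks (toBlocks₁₁ g.1 * A.1 * toBlocks₁₁ (g⁻¹).1) 0 0 1 = g.1 * fromBlocks A.1 0 0 1 * (g⁻¹).1
    rw [e1, e2, fromBlocks_multiply, fromBlocks_multiply]
    simp only [Matrix.mul_zero, Matrix.zero_mul, add_zero, zero_add, Matrix.mul_one, toBlocks_fromBlocks₁₁, f2]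

end blocks

/-- **Involutions of `SL_n(F)`, `n ≥ 5`.** -/
theorem exists_normal {n : Type*} [Fintype n] [DecidableEq n] [Finite F] (h2 : (2 : F) ≠ 0) (hn : 5 ≤ Fintype.card n)
    {T : _root_.Matrix.SpecialLinearGroup n F} (hT : T * T = 1) :
    ∃ J : Subgroup (_root_.Matrix.SpecialLinearGroup n F), J ≤ Subgroup.centralizer ({T} : Set (_root_.Matrix.SpecialLinearGroup n F)) ∧
      (∀ g : _root_.Matrix.SpecialLinearGroup n F, g * T = T * g → ∀ x ∈ J, g * x * g⁻¹ ∈ J) ∧ IsQuasisimple ↥J ∧
      Even (Nat.card ↥J) := by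
  classical
  obtain ⟨Θ, d, hd, hΘ⟩ := exists_diag h2 hT
  -- the large eigenspace
  obtain ⟨ε, hε, h3⟩ : ∃ ε : F, (ε = 1 ∨ ε = -1) ∧ 3 ≤ Fintype.card {i // d i = ε} := by
    by_contra hcon
    push Not at hcon
    have a1 := hcon 1 (Or.inl rfl)
    have a2 := hcon (-1) (Or.inr rfl)
    have a3 : Fintype.card n ≤ Fintype.card {i // d i = 1} + Fintype.card {i // d i = -1} := by
      rw [← Fintype.card_sum]
      refine Fintype.card_le_of_injective (fun i => if h : d i = 1 then Sum.inl ⟨i, h⟩ else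
        Sum.inr ⟨i, (hd i).resolve_left h⟩) ?_
      intro i j hij
      by_cases hi : d i = 1 <;> by_cases hj : d j = 1 <;> simp [hi, hj] at hij <;> exact hij
    omega
  let e : {i // d i = ε} ⊕ {i // ¬ d i = ε} ≃ n := Equiv.sumCompl _
  let R : Matrix n n F ≃* Matrix ({i // d i = ε} ⊕ {i // ¬ d i = ε}) ({i // d i = ε} ⊕ {i // ¬ d i = ε}) F :=
    (Matrix.reindexAlgEquiv F F e.symm).toMulEquiv
  have hR : ∀ M, (R M).det = M.det := fun M => Matrix.det_reindex_self e.symm M
  let Θ' := slEquiv R hR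
  let Φ : _root_.Matrix.SpecialLinearGroup n F ≃* _root_.Matrix.SpecialLinearGroup ({i // d i = ε} ⊕ {i // ¬ d i = ε}) F := Θ.trans Θ'
  have hD : (Φ T).1 = fromBlocks (ε • (1 : Matrix {i // d i = ε} {i // d i = ε} F)) 0 0
      (-ε • (1 : Matrix {i // ¬ d i = ε} {i // ¬ d i = ε} F)) := by
    change Matrix.reindex e.symm e.symm (Θ T : Matrix n n F) = _
    rw [hΘ]
    ext i j
    have he : ∀ i j, (Matrix.reindex e.symm e.symm (diagonal d)) i j = if i = j then d (e i) else 0 := by
      intro i j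
      rw [Matrix.reindex_apply, Matrix.submatrix_apply, Equiv.symm_symm, diagonal_apply]
      simp only [e.apply_eq_iff_eq]
    rw [he]
    rcases i with i | i <;> rcases j with j | j
    · rw [fromBlocks_apply₁₁, Matrix.smul_apply, Matrix.one_apply, smul_eq_mul]
      by_cases h : i = j
      · rw [if_pos (by rw [h]), if_pos h, mul_one]
        exact i.2
      · rw [if_neg (fun h' => h (Sum.inl_injective h')), if_neg h, mul_zero]
    · rw [fromBlocks_apply₁₂, if_neg Sum.inl_ne_inr]
      rfl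
    · rw [fromBlocks_apply₂₁, if_neg Sum.inr_ne_inl]
      rfl
    · rw [fromBlocks_apply₂₂, Matrix.smul_apply, Matrix.one_apply, smul_eq_mul]
      by_cases h : i = j
      · rw [if_pos (by rw [h]), if_pos h, mul_one]
        change d i.1 = -ε
        have h5 := i.2
        rcases hε with rfl | rfl
        · exact (hd i.1).resolve_left h5
        · rw [neg_neg]
          exact (hd i.1).resolve_right h5
      · rw [if_neg (fun h' => h (Sum.inr_injective h')), if_neg h, mul_zero]
  obtain ⟨g1, g2⟩ := left_normal h2 hε hD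
  let J := (left {i // d i = ε} {i // ¬ d i = ε} F).range.comap Φ.toMonoidHom
  have eJ : _root_.Matrix.SpecialLinearGroup {i // d i = ε} F ≃* ↥J :=
    (MonoidHom.ofInjective (left_injective (ι := {i // d i = ε}) (κ := {i // ¬ d i = ε}) (F := F))).trans
      ((Φ.symm.subgroupMap _).trans (MulEquiv.subgroupCongr (by
        ext x
        constructor
        · rintro ⟨y, hy, rfl⟩
          change Φ (Φ.symm y) ∈ (left {i // d i = ε} {i // ¬ d i = ε} F).range
          rw [MulEquiv.apply_symm_apply]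
          exact hy
        · intro hx
          exact ⟨Φ x, hx, Φ.symm_apply_apply x⟩)))
  refine ⟨J, ?_, ?_, ?_, ?_⟩
  · intro x hx
    have h4 := Subgroup.mem_centralizer_singleton_iff.1 (g1 hx)
    refine Subgroup.mem_centralizer_singleton_iff.2 (Φ.injective ?_)
    rw [map_mul, map_mul]
    exact h4
  · intro g hg x hx
    have h4 := g2 (Φ g) (by rw [← map_mul, hg, map_mul]) _ hx
    change Φ (g * x * g⁻¹) ∈ (left {i // d i = ε} {i // ¬ d i = ε} F).range
    rw [map_mul, map_mul, map_inv]
    exact h4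
  · exact isQuasisimple_of_mulEquiv eJ (Cfsg.Agent.SignalizersComponents.SLQuasisimple.isQuasisimple_of_three_le h3)
  · have hnt : Nontrivial {i // d i = ε} := Fintype.one_lt_card_iff_nontrivial.1 (by omega)
    rw [← Nat.card_congr eJ.toEquiv]
    exact Cfsg.Agent.SignalizersComponents.SLQuasisimple.even_card h2

end Cfsg.Agent.H288.SLInv
end

-- part: H288/CompRows
section
/-!
# Involutions whose centralizer has a normal quasisimple subgroup: `PSL₅(3)`, `McL`, `Ly` (helper288)

* `NComp t` : `C(t)` has a normal quasisimple subgroup of even order; `NComp.not_solvable`, `NComp.not_constrained`;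
* `psl5` : every involution of `PSL₅(3)`;
* `alt` : every involution of a simple group with `HasAltCover`.
-/

set_option autoImplicit false

namespace Cfsg.Agent.H288.CompRows

open Cfsg Subgroup
open Cfsg.Agent.SignalizersComponents.Components
open Cfsg.Agent.H288.Rest
open Cfsg.Agent.GH.Defs

universe u

/-- `C(t)` has a normal quasisimple subgroup of even order -/
def NComp {X : Type*} [Group X] (t : X) : Prop :=
  ∃ J : Subgroup X, J ≤ centralizer ({t} : Set X) ∧ (∀ g, g * t = t * g → ∀ x ∈ J, g * x * g⁻¹ ∈ J) ∧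
    IsQuasisimple ↥J ∧ Even (Nat.card ↥J)

theorem NComp.not_solvable {X : Type*} [Group X] [Finite X] {t : X} (h : NComp t) :
    ¬ Group.IsSolvable ↥(centralizer ({t} : Set X)) := by
  intro hs
  obtain ⟨J, hJ, -, hq, -⟩ := h
  have h2 : Group.IsSolvable ↥J := Group.isSolvable_of_isSolvable_injective (f := inclusion hJ) (inclusion_injective hJ)
  exact Cfsg.Agent.Lib.ComponentSolvable.quasisimple_not_solvable hq h2

theorem NComp.not_constrained {X : Type*} [Group X] [Finite X] {t : X} (h : NComp t) :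
    ¬ IsPConstrained 2 ↥(centralizer ({t} : Set X)) := by
  intro hc
  have : Fact (Nat.Prime 2) := ⟨Nat.prime_two⟩
  obtain ⟨J, hJ, hn, hq, he⟩ := h
  let D := centralizer ({t} : Set X)
  have h3 : layer (↥D ⧸ pPrimeCore 2 ↥D) = ⊥ := by
    rw [← Cfsg.Agent.SignalizersComponents.PConstrained.pLayer_eq_bot_iff,
      ← Cfsg.Agent.SignalizersComponents.PConstrained.isPConstrained_iff_pLayer_eq_bot]
    exact hc
  have hN : (J.subgroupOf D).Normal := by
    constructor
    intro x hx g
    exact hn g (mem_centralizer_singleton_iff.1 g.2) x (mem_subgroupOf.1 hx)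
  have h4 : IsComponent (J.subgroupOf D) := ⟨hN.isSubnormal, isQuasisimple_of_mulEquiv (subgroupOfEquivOfLe hJ).symm hq⟩
  have h5 : ¬ J.subgroupOf D ≤ pPrimeCore 2 ↥D := by
    intro h
    have h7 : (Nat.card ↥(pPrimeCore 2 ↥D)).Coprime 2 := Cfsg.Agent.Lib.Cores.pPrimeCore_coprime 2
    have h8 : Nat.card ↥(J.subgroupOf D) ∣ Nat.card ↥(pPrimeCore 2 ↥D) := card_dvd_of_le h
    rw [Nat.card_congr (subgroupOfEquivOfLe hJ).toEquiv] at h8
    exact absurd (Nat.Coprime.eq_one_of_dvd h7.symm (he.two_dvd.trans h8)) (by norm_num)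
  have h6 := Cfsg.Agent.SignalizersComponents.QuasisimpleQuotient.isComponent_map_mk' h4 h5
  have h7 : (J.subgroupOf D).map (QuotientGroup.mk' (pPrimeCore 2 ↥D)) ≤ layer (↥D ⧸ pPrimeCore 2 ↥D) := le_sSup h6
  rw [h3, le_bot_iff] at h7
  have h8 := h6.2
  rw [h7] at h8
  exact Cfsg.Agent.Lib.ComponentSolvable.quasisimple_not_solvable h8 inferInstance

/-- transport -/
theorem NComp.map {X Y : Type*} [Group X] [Group Y] (e : X ≃* Y) {t : X} (h : NComp t) : NComp (e t) := by
  obtain ⟨J, hJ, hn, hq, he⟩ := h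
  refine ⟨J.map e.toMonoidHom, ?_, ?_, isQuasisimple_of_mulEquiv (e.subgroupMap J) hq, ?_⟩
  · rintro _ ⟨x, hx, rfl⟩
    refine mem_centralizer_singleton_iff.2 ?_
    change e x * e t = e t * e x
    rw [← map_mul, ← map_mul, mem_centralizer_singleton_iff.1 (hJ hx)]
  · rintro g hg _ ⟨x, hx, rfl⟩
    refine ⟨e.symm g * x * (e.symm g)⁻¹, hn _ (e.injective ?_) x hx, ?_⟩
    · rw [map_mul, map_mul, e.apply_symm_apply, hg]
    · change e (e.symm g * x * (e.symm g)⁻¹) = g * e x * g⁻¹
      rw [map_mul, map_mul, map_inv, e.apply_symm_apply]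
  · rw [Nat.card_congr (e.subgroupMap J).toEquiv] at he
    exact he

/-- the center of `SL₅(3)` is trivial -/
theorem center_sl5 {F : Type*} [Field F] [Fintype F] (hF : Fintype.card F = 3) :
    center (Matrix.SpecialLinearGroup (Fin 5) F) = ⊥ := by
  rw [eq_bot_iff]
  intro z hz
  obtain ⟨r, hr, hrz⟩ := Matrix.SpecialLinearGroup.mem_center_iff.1 hz
  rw [Fintype.card_fin] at hr
  have h3 : r ^ 3 = r := by
    have := FiniteField.pow_card r
    rwa [hF] at this
  have h1 : r = 1 := by
    calc r = r ^ 3 := h3.symm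
      _ = r ^ 2 * r := by ring
      _ = r ^ 2 * r ^ 3 := by rw [h3]
      _ = r ^ 5 := by ring
      _ = 1 := hr
  rw [mem_bot]
  apply Subtype.ext
  rw [← hrz, h1]
  simp

/-- **`PSL₅(3)`.** -/
theorem psl5 {X : Type*} [Group X] (h : IsPSLq 5 3 X) {t : X} (ht : orderOf t = 2) : NComp t := by
  obtain ⟨F, _, _, hF, ⟨e⟩⟩ := h
  have hc := center_sl5 hF
  let p : Matrix.SpecialLinearGroup (Fin 5) F ≃* Matrix.ProjectiveSpecialLinearGroup (Fin 5) F :=
    MulEquiv.ofBijective (QuotientGroup.mk' (center (Matrix.SpecialLinearGroup (Fin 5) F)))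
      ⟨(MonoidHom.ker_eq_bot_iff _).1 (by rw [QuotientGroup.ker_mk', hc]), QuotientGroup.mk'_surjective _⟩
  have hc : CharP F 3 := by
    obtain ⟨p, hp⟩ := CharP.exists F
    have hpp : p.Prime := (CharP.char_is_prime_or_zero F p).resolve_right (CharP.char_ne_zero_of_finite F p)
    obtain ⟨n, -, hn⟩ := FiniteField.card F p
    rw [hF] at hn
    have : p ∣ 3 := hn ▸ dvd_pow_self p n.pos.ne'
    rwa [(Nat.prime_dvd_prime_iff_eq hpp Nat.prime_three).1 this] at hp
  have h2 : (2 : F) ≠ 0 := by
    intro h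
    have h3 : (3 : F) = 0 := by exact_mod_cast CharP.cast_eq_zero F 3
    have : (1 : F) = 0 := by linear_combination h3 - h
    exact one_ne_zero this
  let e' := e.trans p.symm
  have hT : e' t * e' t = 1 := by
    rw [← map_mul, ← pow_two, ← ht, pow_orderOf_eq_one, map_one]
  have h5 := NComp.map e'.symm (Cfsg.Agent.H288.SLInv.exists_normal h2 (by simp) hT)
  rwa [e'.symm_apply_apply] at h5

theorem of_mt {X : Type*} [Group X] [Finite X] {n : ℕ} (hn : 5 ≤ n) (L : Cfsg.Agent.TypeM.Two.MT n X) {t : X}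
    (ht : orderOf t = 2) : NComp t := by
  obtain ⟨h1, h2⟩ := Cfsg.Agent.TypeM.Two.MT.sq_of_orderOf ht
  obtain ⟨g, hg⟩ := L.one t h1 h2
  have h3 : NComp L.t := by
    refine ⟨centralizer ({L.t} : Set X), le_rfl, ?_, Cfsg.Agent.SevenLow.DoubleCover.quasisimple_of_cover hn L.K, ?_⟩
    · intro g hg x hx
      exact mul_mem (mul_mem (mem_centralizer_singleton_iff.2 hg) hx) (inv_mem (mem_centralizer_singleton_iff.2 hg))
    · have h4 : orderOf L.K.z = 2 := L.K.orderOf_z
      exact even_iff_two_dvd.2 (h4 ▸ _root_.orderOf_dvd_natCard _)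
  have h4 := h3.map (MulAut.conj g)
  rwa [MulAut.conj_apply, hg] at h4

theorem oddCore_eq_bot {X : Type*} [Group X] [Finite X] [IsSimpleGroup X] {t : X} (ht : orderOf t = 2) :
    oddCore X = ⊥ := by
  have hn : (pPrimeCore 2 X).Normal := Cfsg.Agent.Lib.Cores.pPrimeCore_normal 2
  rcases hn.eq_bot_or_eq_top with h | h
  · exact h
  · exfalso
    have h7 : (Nat.card ↥(pPrimeCore 2 X)).Coprime 2 := Cfsg.Agent.Lib.Cores.pPrimeCore_coprime 2
    rw [h, Nat.card_congr topEquiv.toEquiv] at h7
    exact absurd (Nat.Coprime.eq_one_of_dvd h7.symm (ht ▸ _root_.orderOf_dvd_natCard t)) (by norm_num)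

/-- **`McL` and `Ly`.** -/
theorem alt {X : Type*} [Group X] [Finite X] [IsSimpleGroup X] (hna : ¬ IsMulCommutative X)
    (h1738 : Cfsg.Agent.GH.AltOut.St1738 X) (h : HasAltCover X) {t : X} (ht : orderOf t = 2) : NComp t := by
  rcases Cfsg.Agent.GH.AltOut.mcl_or_ly hna (oddCore_eq_bot ht) h1738 h with h | h
  · obtain ⟨-, -, -, ⟨L⟩⟩ := Cfsg.Agent.TypeM.FactsMcL.facts h
    exact of_mt (by norm_num) L ht
  · obtain ⟨-, -, -, ⟨L⟩⟩ := Cfsg.Agent.TypeM.FactsLy.facts h
    exact of_mt (by norm_num) L ht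

end Cfsg.Agent.H288.CompRows
end
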